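import Mathlib
import Cfsg.Agent.Lib.Classical.OrthTypes

/-!
The forms with the standard polar form in characteristic two, and their sign.
-/

set_option autoImplicit false
set_option linter.unusedSectionVars false

universe u

namespace OrthClassTwo2559

open Matrix

variable {F : Type u} [Field F] [Fintype F] [CharP F 2]

/-- `x` is of the shape `t ^ 2 + t` -/
def Shape (x : F) : Prop := ∃ t : F, t * t + t = x

/-- the sign of a scalar -/
noncomputable def chi (x : F) : ℤ := by
  classical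
  exact if Shape x then 1 else -1

lemma chi_pos {x : F} (h : Shape x) : chi x = 1 := by
  classical
  rw [chi, if_pos h]

lemma chi_neg {x : F} (h : ¬ Shape x) : chi x = -1 := by
  classical
  rw [chi, if_neg h]

lemma chi_cases (x : F) : chi x = 1 ∨ chi x = -1 := by
  by_cases h : Shape x
  · exact Or.inl (chi_pos h)
  · exact Or.inr (chi_neg h)

lemma shape_add {x y : F} (hx : Shape x) (hy : Shape y) : Shape (x + y) := by
  obtain ⟨s, rfl⟩ := hx
  obtain ⟨t, rfl⟩ := hy
  exact ⟨s + t, by linear_combination (s * t) * CharTwo.two_eq_zero (R := F)⟩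

lemma chi_add (x y : F) : chi (x + y) = chi x * chi y := by
  have h2 := CharTwo.two_eq_zero (R := F)
  by_cases hx : Shape x <;> by_cases hy : Shape y
  · rw [chi_pos hx, chi_pos hy, chi_pos (shape_add hx hy), one_mul]
  · rw [chi_pos hx, chi_neg hy, chi_neg, one_mul]
    intro h
    refine hy ?_
    have := shape_add h hx
    rwa [show x + y + x = y by linear_combination x * h2] at this
  · rw [chi_neg hx, chi_pos hy, chi_neg, mul_one]
    intro h
    refine hx ?_
    have := shape_add h hy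
    rwa [show x + y + y = x by linear_combination y * h2] at this
  · rw [chi_neg hx, chi_neg hy, chi_pos, neg_one_mul, neg_neg]
    have key : ∀ {z : F}, ¬ Shape z → ∀ t : F, t ^ 2 + t + z ≠ 0 := fun {z} hz t ht =>
      hz ⟨t, by linear_combination ht - z * h2⟩
    obtain ⟨s, t, -, hs, ht⟩ := Cfsg.Agent.Classical.QuadClass.exists_normal_change (key hx) (key hy)
    have hs1 : s = 1 := by linear_combination hs - t * h2
    subst hs1
    exact ⟨t, by linear_combination ht - x * h2⟩

lemma chi_zero : chi (0 : F) = 1 := chi_pos ⟨0, by ring⟩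

lemma chi_sq (x : F) : chi (x * x) = chi x := by
  have h : chi (x * x + x) = 1 := chi_pos ⟨x, rfl⟩
  rw [chi_add] at h
  rcases chi_cases x with e | e <;> rw [e] at h ⊢ <;> linarith

lemma exists_chi_neg : ∃ x : F, chi x = -1 := by
  obtain ⟨ζ, hζ⟩ := Cfsg.Agent.Classical.OrthTypes.exists_zeta (F := F)
  exact ⟨ζ, chi_neg fun ⟨t, ht⟩ => hζ t (by linear_combination ht + ζ * CharTwo.two_eq_zero (R := F))⟩

/-- a sign takes both values equally often -/
lemma sum_chi_eq_zero : ∑ x : F, chi x = 0 := by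
  obtain ⟨z, hz⟩ := exists_chi_neg (F := F)
  have h : ∑ x : F, chi x = ∑ x : F, chi (x + z) :=
    (Fintype.sum_equiv (Equiv.addRight z) _ _ fun x => rfl).symm
  simp only [chi_add, hz, mul_neg, mul_one, Finset.sum_neg_distrib] at h
  linarith

lemma two_mul_card_chi {e : ℤ} (he : e = 1 ∨ e = -1) :
    2 * Nat.card {x : F // chi x = e} = Fintype.card F := by
  classical
  rw [Nat.card_eq_fintype_card, Fintype.card_subtype]
  have h : ∀ x : F, (if chi x = e then (2 : ℤ) else 0) = 1 + e * chi x := fun x => by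
    rcases chi_cases x with h | h <;> rcases he with rfl | rfl <;> simp [h]
  have hsum := Finset.sum_congr rfl (fun x (_ : x ∈ Finset.univ) => h x)
  rw [Finset.sum_add_distrib, ← Finset.mul_sum, sum_chi_eq_zero, ← Finset.sum_filter,
    Finset.sum_const, Finset.sum_const, Finset.card_univ] at hsum
  simp only [nsmul_eq_mul] at hsum
  zify
  linarith

variable {κ : Type} [Fintype κ] [DecidableEq κ]

/-- the hyperbolic form -/
noncomputable def P0 (F : Type u) [Field F] (κ : Type) [Fintype κ] : QuadraticForm F (κ ⊕ κ → F) :=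
  ∑ i : κ, QuadraticMap.linMulLin
    (LinearMap.proj (R := F) (φ := fun _ : κ ⊕ κ => F) (Sum.inl i))
    (LinearMap.proj (R := F) (φ := fun _ : κ ⊕ κ => F) (Sum.inr i))

lemma P0_apply (v : κ ⊕ κ → F) : P0 F κ v = ∑ i, v (.inl i) * v (.inr i) := by simp [P0]

/-- its polar form -/
def bl (u v : κ ⊕ κ → F) : F := ∑ i, (u (.inl i) * v (.inr i) + u (.inr i) * v (.inl i))

lemma bl_comm (u v : κ ⊕ κ → F) : bl u v = bl v u :=
  Finset.sum_congr rfl fun i _ => by ring

lemma bl_self (u : κ ⊕ κ → F) : bl u u = 0 :=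
  Finset.sum_eq_zero fun i _ => by
    linear_combination (u (.inl i) * u (.inr i)) * CharTwo.two_eq_zero (R := F)

lemma P0_add (u v : κ ⊕ κ → F) : P0 F κ (u + v) = P0 F κ u + P0 F κ v + bl u v := by
  simp only [P0_apply, bl, Pi.add_apply, ← Finset.sum_add_distrib]
  exact Finset.sum_congr rfl fun i _ => by ring

lemma bl_add_right (a u v : κ ⊕ κ → F) : bl a (u + v) = bl a u + bl a v := by
  simp only [bl, Pi.add_apply, ← Finset.sum_add_distrib]
  exact Finset.sum_congr rfl fun i _ => by ring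

lemma bl_smul_right (a : κ ⊕ κ → F) (c : F) (v : κ ⊕ κ → F) : bl a (c • v) = c * bl a v := by
  simp only [bl, Pi.smul_apply, smul_eq_mul, Finset.mul_sum]
  exact Finset.sum_congr rfl fun i _ => by ring

lemma bl_add_left (u v a : κ ⊕ κ → F) : bl (u + v) a = bl u a + bl v a := by
  rw [bl_comm, bl_add_right, bl_comm a, bl_comm a]

lemma bl_smul_left (c : F) (v a : κ ⊕ κ → F) : bl (c • v) a = c * bl v a := by
  rw [bl_comm, bl_smul_right, bl_comm]

lemma bl_zero_right (a : κ ⊕ κ → F) : bl a 0 = 0 := by simp [bl]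

lemma bl_zero_left (a : κ ⊕ κ → F) : bl 0 a = 0 := by simp [bl]

lemma bl_nondeg {a : κ ⊕ κ → F} (h : ∀ x, bl a x = 0) : a = 0 := by
  funext z
  rcases z with i | i
  · simpa [bl, Pi.single_apply] using h (Pi.single (Sum.inr i) 1)
  · simpa [bl, Pi.single_apply] using h (Pi.single (Sum.inl i) 1)

/-- the polar form against a vector as a linear map -/
def blLin (a : κ ⊕ κ → F) : (κ ⊕ κ → F) →ₗ[F] F where
  toFun := bl a
  map_add' := bl_add_right a
  map_smul' := bl_smul_right a

/-- the hyperbolic form plus the square of a linear form -/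
noncomputable def Qw (w : κ ⊕ κ → F) : QuadraticForm F (κ ⊕ κ → F) :=
  P0 F κ + QuadraticMap.linMulLin (blLin w) (blLin w)

lemma Qw_apply (w v : κ ⊕ κ → F) : Qw w v = P0 F κ v + bl w v * bl w v := by
  simp [Qw, blLin]

lemma Qw_add (w u v : κ ⊕ κ → F) : Qw w (u + v) = Qw w u + Qw w v + bl u v := by
  rw [Qw_apply, Qw_apply, Qw_apply, P0_add, bl_add_right]
  linear_combination (bl w u * bl w v) * CharTwo.two_eq_zero (R := F)

lemma Qw_smul (w : κ ⊕ κ → F) (c : F) (v : κ ⊕ κ → F) : Qw w (c • v) = c * c * Qw w v := by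
  rw [QuadraticMap.map_smul, smul_eq_mul]

lemma chi_Qw (w v : κ ⊕ κ → F) : chi (Qw w v) = chi (P0 F κ w) * chi (P0 F κ (v + w)) := by
  rw [Qw_apply, chi_add, chi_sq, ← chi_add, ← chi_add, P0_add, bl_comm w v]
  congr 1
  linear_combination (-(P0 F κ w)) * CharTwo.two_eq_zero (R := F)

/-- the exponential sum -/
noncomputable def csum (Q : (κ ⊕ κ → F) → F) : ℤ := ∑ v : κ ⊕ κ → F, chi (Q v)

lemma csum_Qw (w : κ ⊕ κ → F) : csum (Qw w) = chi (P0 F κ w) * csum (P0 F κ) := by
  simp only [csum, chi_Qw, ← Finset.mul_sum]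
  congr 1
  exact Fintype.sum_equiv (Equiv.addRight w) _ _ fun v => rfl

lemma sum_chi_bl {z : κ ⊕ κ → F} (hz : z ≠ 0) : ∑ x, chi (bl z x) = 0 := by
  obtain ⟨x0, hx0⟩ : ∃ x0, bl z x0 ≠ 0 := by
    by_contra h
    push Not at h
    exact hz (bl_nondeg h)
  obtain ⟨c, hc⟩ := exists_chi_neg (F := F)
  set x1 := (c / bl z x0) • x0 with hx1
  have h : ∑ x, chi (bl z x) = ∑ x, chi (bl z (x + x1)) :=
    (Fintype.sum_equiv (Equiv.addRight x1) _ _ fun x => rfl).symm
  have h1 : bl z x1 = c := by rw [hx1, bl_smul_right, div_mul_cancel₀ _ hx0]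
  simp only [bl_add_right, chi_add, h1, hc, mul_neg, mul_one, Finset.sum_neg_distrib] at h
  linarith

lemma csum_P0_ne_zero : csum (κ := κ) (P0 F κ) ≠ 0 := by
  classical
  intro h
  have h2 := CharTwo.two_eq_zero (R := F)
  have hsq : csum (κ := κ) (P0 F κ) * csum (P0 F κ) =
      (Fintype.card (κ ⊕ κ → F) : ℤ) := by
    rw [csum, Finset.sum_mul_sum]
    calc ∑ x : κ ⊕ κ → F, ∑ y, chi (P0 F κ x) * chi (P0 F κ y)
        = ∑ x : κ ⊕ κ → F, ∑ z, chi (P0 F κ z) * chi (bl z x) := by
          refine Finset.sum_congr rfl fun x _ => ?_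
          refine (Fintype.sum_equiv (Equiv.addLeft x) _ _ fun z => ?_).symm
          rw [← chi_add, ← chi_add, Equiv.coe_addLeft, P0_add, bl_comm x z]
          congr 1
          linear_combination (-(P0 F κ x)) * h2
      _ = ∑ z, chi (P0 F κ z) * ∑ x, chi (bl z x) := by
          rw [Finset.sum_comm]
          exact Finset.sum_congr rfl fun z _ => (Finset.mul_sum _ _ _).symm
      _ = _ := by
          rw [Finset.sum_eq_single (0 : κ ⊕ κ → F)
            (fun z _ hz => by rw [sum_chi_bl hz, mul_zero]) (fun h => (h (Finset.mem_univ _)).elim)]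
          simp [chi_zero, bl_zero_left]
  rw [h, mul_zero] at hsq
  exact_mod_cast (Fintype.card_pos (α := κ ⊕ κ → F)).ne (by exact_mod_cast hsq)

/-- forms with equal sums have equal signs -/
lemma chi_eq_of_csum {w w' : κ ⊕ κ → F} (h : csum (Qw w) = csum (Qw w')) :
    chi (P0 F κ w) = chi (P0 F κ w') := by
  rw [csum_Qw, csum_Qw] at h
  exact mul_right_cancel₀ csum_P0_ne_zero h

lemma csum_comp (Q Q' : (κ ⊕ κ → F) → F) (e : (κ ⊕ κ → F) ≃ (κ ⊕ κ → F))
    (h : ∀ v, Q' (e v) = Q v) : csum Q = csum Q' :=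
  Fintype.sum_equiv e _ _ fun v => by rw [h]

end OrthClassTwo2559
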