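import Mathlib
import Cfsg.Agent.OrthClassCountTwo.Arf

/-!
Fusion from the orthogonal groups to the symplectic group in characteristic two.
-/

set_option autoImplicit false
set_option linter.unusedSectionVars false

universe u

namespace OrthClassTwo2559

open Matrix

variable {F : Type u} [Field F] [Fintype F] [CharP F 2] {κ : Type} [Fintype κ] [DecidableEq κ]

lemma exists_sq_bl (f : (κ ⊕ κ → F) → F) (hadd : ∀ x y, f (x + y) = f x + f y)
    (hsmul : ∀ (c : F) x, f (c • x) = c * c * f x) : ∃ a, ∀ x, f x = bl a x * bl a x := by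
  have hroot : ∀ x : F, ∃ r : F, r * r = x := fun x => by
    obtain ⟨r, hr⟩ := FiniteField.isSquare_of_char_two (ringChar.eq F 2) x
    exact ⟨r, hr.symm⟩
  choose r hr using fun z : κ ⊕ κ => hroot (f (Pi.single z 1))
  let F0 : (κ ⊕ κ → F) →+ F := AddMonoidHom.mk' f hadd
  let a : κ ⊕ κ → F := fun z => r z.swap
  refine ⟨a, fun x => ?_⟩
  have hx : x = ∑ z, x z • Pi.single z (1 : F) := by
    funext i
    simp [Finset.sum_apply, Pi.single_apply]
  have hsum : bl a x = ∑ z, r z * x z := by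
    rw [Fintype.sum_sum_type, bl, Finset.sum_add_distrib, add_comm]
    rfl
  rw [hsum, CharTwo.sum_mul_self]
  calc f x = F0 x := rfl
    _ = ∑ z, F0 (x z • Pi.single z (1 : F)) := by rw [← map_sum, ← hx]
    _ = _ := by
      refine Finset.sum_congr rfl fun z _ => ?_
      show f (x z • Pi.single z (1 : F)) = _
      rw [hsmul, ← hr z]
      ring

/-- forms with the same polar differ by the square of a linear form -/
lemma exists_diff (Q : (κ ⊕ κ → F) → F) (w : κ ⊕ κ → F)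
    (hadd : ∀ x y, Q (x + y) = Q x + Q y + bl x y)
    (hsmul : ∀ (c : F) x, Q (c • x) = c * c * Q x) :
    ∃ a, ∀ x, Q x = Qw w x + bl a x * bl a x := by
  obtain ⟨a, ha⟩ := exists_sq_bl (fun x => Q x + Qw w x)
    (fun x y => by
      show Q (x + y) + Qw w (x + y) = _
      rw [hadd, Qw_add]
      linear_combination (bl x y) * CharTwo.two_eq_zero (R := F))
    (fun c x => by
      show Q (c • x) + Qw w (c • x) = _
      rw [hsmul, Qw_smul]
      ring)
  exact ⟨a, fun x => by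
    linear_combination ha x - (Qw w x) * CharTwo.two_eq_zero (R := F)⟩

lemma csum_twist (w a : κ ⊕ κ → F) :
    csum (fun x => Qw w x + bl a x * bl a x) = chi (Qw w a) * csum (Qw w) := by
  have h : (fun x => Qw w x + bl a x * bl a x) = ⇑(Qw (w + a)) := funext fun x => by
    rw [Qw_apply, Qw_apply, bl_add_left]
    linear_combination (-(bl w x * bl a x)) * CharTwo.two_eq_zero (R := F)
  have e : chi (P0 F κ (w + a)) = chi (P0 F κ w) * chi (Qw w a) := by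
    rw [chi_Qw, add_comm a w, ← mul_assoc]
    rcases chi_cases (P0 F κ w) with e | e <;> rw [e] <;> ring
  rw [h, csum_Qw, csum_Qw, e]
  ring

/-- a transvection carrying one form to the other -/
lemma exists_transvection (w a : κ ⊕ κ → F)
    (h : csum (fun x => Qw w x + bl a x * bl a x) = csum (Qw w)) :
    ∃ c : F, ∀ x, Qw w (x + (c * bl a x) • a) = Qw w x + bl a x * bl a x := by
  have h2 := CharTwo.two_eq_zero (R := F)
  have hne : csum (Qw w) ≠ 0 := by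
    rw [csum_Qw]
    exact mul_ne_zero (by rcases chi_cases (P0 F κ w) with e | e <;> rw [e] <;> norm_num) csum_P0_ne_zero
  have hchi : chi (Qw w a) = 1 := by
    rw [csum_twist] at h
    exact mul_right_cancel₀ hne (h.trans (one_mul _).symm)
  obtain ⟨c, hc⟩ : ∃ c : F, c * c * Qw w a + c = 1 := by
    by_cases h0 : Qw w a = 0
    · exact ⟨1, by rw [h0]; ring⟩
    · by_cases hs : Shape (Qw w a)
      · obtain ⟨t, ht⟩ := hs
        refine ⟨t / Qw w a, ?_⟩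
        field_simp
        linear_combination ht
      · rw [chi_neg hs] at hchi
        norm_num at hchi
  refine ⟨c, fun x => ?_⟩
  rw [Qw_add, Qw_smul, bl_smul_right, bl_comm x a]
  linear_combination (bl a x * bl a x) * hc

variable (F κ) in
/-- the isometries of `Qw w` in matrices -/
def IsIso (w : κ ⊕ κ → F) (M : Matrix (κ ⊕ κ) (κ ⊕ κ) F) : Prop := ∀ x, Qw w (M *ᵥ x) = Qw w x

lemma IsIso.bl {w : κ ⊕ κ → F} {M : Matrix (κ ⊕ κ) (κ ⊕ κ) F} (h : IsIso F κ w M)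
    (x y : κ ⊕ κ → F) : OrthClassTwo2559.bl (M *ᵥ x) (M *ᵥ y) = OrthClassTwo2559.bl x y := by
  have e := h (x + y)
  rw [Matrix.mulVec_add, Qw_add, Qw_add, h x, h y] at e
  exact add_left_cancel e

lemma isIso_bl_preserved {w : κ ⊕ κ → F} {h : Matrix (κ ⊕ κ) (κ ⊕ κ) F}
    (hh : ∀ x y, bl (h *ᵥ x) (h *ᵥ y) = bl x y) (w' : κ ⊕ κ → F) :
    ∃ a, ∀ x, Qw w' (h *ᵥ x) = Qw w x + bl a x * bl a x :=
  exists_diff _ w (fun x y => by simp only [Matrix.mulVec_add, Qw_add, hh])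
    (fun c x => by simp only [Matrix.mulVec_smul, Qw_smul])

lemma fixed_diff {w a : κ ⊕ κ → F} {Q : (κ ⊕ κ → F) → F} {g : Matrix (κ ⊕ κ) (κ ⊕ κ) F}
    (hg : IsIso F κ w g) (hgu : IsUnit g) (hQ : ∀ x, Q (g *ᵥ x) = Q x)
    (ha : ∀ x, Q x = Qw w x + bl a x * bl a x) : g *ᵥ a = a := by
  have hL : ∀ x, bl a (g *ᵥ x) = bl a x := fun x => by
    have e := hQ x
    rw [ha, ha, hg] at e
    have e' := add_left_cancel e
    have : (bl a (g *ᵥ x) - bl a x) * (bl a (g *ᵥ x) - bl a x) = 0 := by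
      linear_combination e' + (bl a x * bl a x - bl a (g *ᵥ x) * bl a x) *
        CharTwo.two_eq_zero (R := F)
    exact sub_eq_zero.1 (mul_self_eq_zero.1 this)
  have hz : g *ᵥ a + a = 0 := bl_nondeg fun z => by
    obtain ⟨x, rfl⟩ := (Matrix.mulVec_surjective_iff_isUnit.2 hgu) z
    rw [bl_add_left, hg.bl, hL]
    exact CharTwo.add_self_eq_zero _
  funext i
  exact CharTwo.add_eq_zero.1 (congrFun hz i)

/-- elements conjugate under the symplectic group are conjugate under the orthogonal group -/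
theorem fusion {w : κ ⊕ κ → F} {g g' h : GL (κ ⊕ κ) F}
    (hg : IsIso F κ w (g : Matrix (κ ⊕ κ) (κ ⊕ κ) F)) (hg' : IsIso F κ w (g' : Matrix (κ ⊕ κ) (κ ⊕ κ) F))
    (hh : ∀ x y, bl ((h : Matrix (κ ⊕ κ) (κ ⊕ κ) F) *ᵥ x) ((h : Matrix (κ ⊕ κ) (κ ⊕ κ) F) *ᵥ y) = bl x y)
    (hc : h * g * h⁻¹ = g') :
    ∃ k : GL (κ ⊕ κ) F, IsIso F κ w (k : Matrix (κ ⊕ κ) (κ ⊕ κ) F) ∧ k * g * k⁻¹ = g' := by
  obtain ⟨a, ha⟩ := isIso_bl_preserved (w := w) hh w
  have hhg : h * g = g' * h := mul_inv_eq_iff_eq_mul.1 hc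
  have hfix : ∀ x, Qw w ((h : Matrix (κ ⊕ κ) (κ ⊕ κ) F) *ᵥ ((g : Matrix (κ ⊕ κ) (κ ⊕ κ) F) *ᵥ x)) =
      Qw w ((h : Matrix (κ ⊕ κ) (κ ⊕ κ) F) *ᵥ x) := fun x => by
    rw [Matrix.mulVec_mulVec, ← Units.val_mul, hhg, Units.val_mul, ← Matrix.mulVec_mulVec, hg']
  have hga := fixed_diff (Q := fun x => Qw w ((h : Matrix (κ ⊕ κ) (κ ⊕ κ) F) *ᵥ x)) hg g.isUnit hfix ha
  obtain ⟨c, hc'⟩ := exists_transvection w a (by
    refine csum_comp _ _ (Equiv.ofBijective _
      ⟨Matrix.mulVec_injective_iff_isUnit.2 h.isUnit, Matrix.mulVec_surjective_iff_isUnit.2 h.isUnit⟩) fun x => ?_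
    show Qw w _ = Qw w x + _
    exact ha x)
  let T : (κ ⊕ κ → F) →ₗ[F] (κ ⊕ κ → F) :=
    LinearMap.id + (c • blLin a).smulRight a
  have hT : ∀ x, T x = x + (c * bl a x) • a := fun x => rfl
  have hTT : T.comp T = LinearMap.id := LinearMap.ext fun x => by
    rw [LinearMap.comp_apply, hT, hT, bl_add_right, bl_smul_right, bl_self, mul_zero, add_zero,
      add_assoc, ← add_smul, CharTwo.add_self_eq_zero, zero_smul, add_zero]
    rfl
  let tM : Matrix (κ ⊕ κ) (κ ⊕ κ) F := LinearMap.toMatrix' T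
  have htM : tM * tM = 1 := by rw [← LinearMap.toMatrix'_comp, hTT, LinearMap.toMatrix'_id]
  let t : GL (κ ⊕ κ) F := ⟨tM, tM, htM, htM⟩
  have ht : ∀ x, (t : Matrix (κ ⊕ κ) (κ ⊕ κ) F) *ᵥ x = x + (c * bl a x) • a := fun x => by
    show tM *ᵥ x = _
    rw [LinearMap.toMatrix'_mulVec, hT]
  refine ⟨h * t, fun x => ?_, ?_⟩
  · have hxx : x = (t : Matrix (κ ⊕ κ) (κ ⊕ κ) F) *ᵥ ((t : Matrix (κ ⊕ κ) (κ ⊕ κ) F) *ᵥ x) := by
      rw [Matrix.mulVec_mulVec]
      show x = (tM * tM) *ᵥ x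
      rw [htM, Matrix.one_mulVec]
    rw [Units.val_mul, ← Matrix.mulVec_mulVec, ha]
    conv_rhs => rw [hxx, ht ((t : Matrix (κ ⊕ κ) (κ ⊕ κ) F) *ᵥ x), hc']
  · have hcomm : t * g = g * t := Units.ext (Matrix.ext_iff_mulVec.2 fun x => by
      have e : bl a ((g : Matrix (κ ⊕ κ) (κ ⊕ κ) F) *ᵥ x) = bl a x := by
        conv_lhs => rw [← hga, hg.bl]
      rw [Units.val_mul, Units.val_mul, ← Matrix.mulVec_mulVec, ← Matrix.mulVec_mulVec, ht, ht,
        Matrix.mulVec_add, Matrix.mulVec_smul, hga, e])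
    rw [_root_.mul_inv_rev, mul_assoc h t g, hcomm, ← mul_assoc, ← mul_assoc h g t,
      mul_inv_cancel_right, hc]

/-- an element without fixed vectors fixes forms of one sign only -/
theorem no_fusion {w w' : κ ⊕ κ → F} {g g' h : GL (κ ⊕ κ) F}
    (hg : IsIso F κ w (g : Matrix (κ ⊕ κ) (κ ⊕ κ) F)) (hg' : IsIso F κ w' (g' : Matrix (κ ⊕ κ) (κ ⊕ κ) F))
    (hh : ∀ x y, bl ((h : Matrix (κ ⊕ κ) (κ ⊕ κ) F) *ᵥ x) ((h : Matrix (κ ⊕ κ) (κ ⊕ κ) F) *ᵥ y) = bl x y)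
    (hc : h * g * h⁻¹ = g')
    (hfp : ((g : Matrix (κ ⊕ κ) (κ ⊕ κ) F) + (g⁻¹ : GL (κ ⊕ κ) F)).det ≠ 0) :
    chi (P0 F κ w) = chi (P0 F κ w') := by
  obtain ⟨a, ha⟩ := isIso_bl_preserved (w := w) hh w'
  have hhg : h * g = g' * h := mul_inv_eq_iff_eq_mul.1 hc
  have hga := fixed_diff (Q := fun x => Qw w' ((h : Matrix (κ ⊕ κ) (κ ⊕ κ) F) *ᵥ x)) hg g.isUnit
    (fun x => by rw [Matrix.mulVec_mulVec, ← Units.val_mul, hhg, Units.val_mul,
      ← Matrix.mulVec_mulVec, hg']) ha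
  have ha0 : a = 0 := by
    refine Matrix.eq_zero_of_mulVec_eq_zero hfp ?_
    have hinv : ((g⁻¹ : GL (κ ⊕ κ) F) : Matrix (κ ⊕ κ) (κ ⊕ κ) F) *ᵥ a = a := by
      conv_lhs => rw [← hga, Matrix.mulVec_mulVec, ← Units.val_mul, inv_mul_cancel, Units.val_one,
        Matrix.one_mulVec]
    rw [Matrix.add_mulVec, hga, hinv]
    funext i
    exact CharTwo.add_self_eq_zero _
  refine chi_eq_of_csum (csum_comp _ _ (Equiv.ofBijective _
    ⟨Matrix.mulVec_injective_iff_isUnit.2 h.isUnit, Matrix.mulVec_surjective_iff_isUnit.2 h.isUnit⟩) fun x => ?_)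
  exact (ha x).trans (by rw [ha0, bl_zero_left, mul_zero, add_zero])

end OrthClassTwo2559
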