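import Mathlib
import Cfsg.Agent.S2385
import Cfsg.Agent.OrthClassCountTwo.Fusion

/-!
Isometries `g` with `g + g⁻¹` of given characteristic polynomial, in characteristic two.
-/

set_option autoImplicit false
set_option linter.unusedSectionVars false

universe u

namespace OrthClassTwo2559

open Matrix Polynomial

variable {F : Type u} [Field F] [Fintype F] [CharP F 2]

lemma sum_symm {α : Type*} (s : Finset α) (f : α → α → F) (hf : ∀ i j, f i j = f j i) :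
    ∑ i ∈ s, ∑ j ∈ s, f i j = ∑ i ∈ s, f i i := by
  classical
  induction s using Finset.induction_on with
  | empty => simp
  | insert a s ha ih =>
    simp only [Finset.sum_insert ha, Finset.sum_add_distrib]
    rw [ih, Finset.sum_congr rfl (fun j _ => hf j a)]
    linear_combination (∑ j ∈ s, f a j) * CharTwo.two_eq_zero (R := F)

lemma quad_diag {n : ℕ} {A : Matrix (Fin n) (Fin n) F} (hA : Aᵀ = A) {σ : Fin n → F}
    (hσ : ∀ i, σ i * σ i = A i i) (z : Fin n → F) : z ⬝ᵥ A *ᵥ z = (σ ⬝ᵥ z) * (σ ⬝ᵥ z) := by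
  simp only [dotProduct, Matrix.mulVec, Finset.mul_sum, Finset.sum_mul]
  rw [sum_symm _ (fun i j => z i * (A i j * z j)) (fun i j => by
    have : A i j = A j i := (congrFun (congrFun hA j) i)
    rw [this]; ring)]
  rw [sum_symm _ (fun i j => σ j * z j * (σ i * z i)) (fun i j => by ring)]
  exact Finset.sum_congr rfl fun i _ => by rw [← hσ]; ring

lemma dot_symm {n : ℕ} {A : Matrix (Fin n) (Fin n) F} (hA : Aᵀ = A) (u v : Fin n → F) :
    u ⬝ᵥ A *ᵥ v = v ⬝ᵥ A *ᵥ u := by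
  rw [dotProduct_mulVec, ← Matrix.mulVec_transpose, hA, dotProduct_comm]

lemma coeff_one_charpoly {n : ℕ} {D E : Matrix (Fin n) (Fin n) F} (hED : E * D = 1) :
    D.charpoly.coeff 1 = E.trace * D.charpoly.coeff 0 := by
  have hE : IsUnit E := IsUnit.of_mul_eq_one _ hED
  have hD : E⁻¹ = D := Matrix.inv_eq_right_inv hED
  have h := Matrix.charpoly_inv E hE
  rw [hD] at h
  have h1 : ((-1 : F[X]) ^ Fintype.card (Fin n)) = 1 := by
    rw [CharTwo.neg_eq, one_pow]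
  rw [h1, one_mul] at h
  rw [h, coeff_C_mul, coeff_C_mul, Matrix.coeff_charpolyRev_eq_neg_trace,
    coeff_zero_eq_eval_zero, Matrix.eval_charpolyRev, CharTwo.neg_eq]
  ring

theorem exists_base {n : ℕ} {h : F[X]} (hh : h.Monic) (hd : h.natDegree = n) (h0 : h.coeff 0 ≠ 0) :
    ∃ (w : Fin n ⊕ Fin n → F) (g : GL (Fin n ⊕ Fin n) F),
      IsIso F (Fin n) w (g : Matrix (Fin n ⊕ Fin n) (Fin n ⊕ Fin n) F) ∧
      chi (P0 F (Fin n) w) = chi (h.coeff 1 / h.coeff 0) ∧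
      ((g : Matrix (Fin n ⊕ Fin n) (Fin n ⊕ Fin n) F) + (g⁻¹ : GL (Fin n ⊕ Fin n) F)).charpoly = h * h := by
  have h2 := CharTwo.two_eq_zero (R := F)
  obtain ⟨S, T, D, hST, hS, hT, hDS, hD⟩ := Cfsg.Agent.S2385.exists_symm n h hh hd
  have hTS : T * S = 1 := mul_eq_one_comm.1 hST
  have hdet : D.det ≠ 0 := fun e => h0 (by
    rw [← hD]
    have := Matrix.det_eq_sign_charpoly_coeff D
    rw [CharTwo.neg_eq, one_pow, one_mul, e] at this
    exact this.symm)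
  have hDu : IsUnit D.det := isUnit_iff_ne_zero.2 hdet
  have hED : D⁻¹ * D = 1 := Matrix.nonsing_inv_mul _ hDu
  have hDE : D * D⁻¹ = 1 := Matrix.mul_nonsing_inv _ hDu
  set N := D⁻¹ * T with hN
  have hSDT : (S * D)ᵀ = S * D := by rw [Matrix.transpose_mul, hS, hDS]
  have hTD : T * Dᵀ = D * T :=
    calc T * Dᵀ = T * (Dᵀ * S) * T := by rw [mul_assoc, mul_assoc, hST, mul_one]
      _ = T * S * D * T := by rw [hDS]; simp only [mul_assoc]
      _ = D * T := by rw [hTS, one_mul]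
  have hSDN : S * D * N = 1 := by rw [hN, mul_assoc, ← mul_assoc D, hDE, one_mul, hST]
  have hNSD : N * (S * D) = 1 := mul_eq_one_comm.1 hSDN
  have hNs : Nᵀ = N := by
    refine left_inv_eq_right_inv ?_ hSDN
    have := congrArg Matrix.transpose hSDN
    rwa [Matrix.transpose_mul, hSDT, Matrix.transpose_one] at this
  have hND : N * Dᵀ = T := by rw [hN, mul_assoc, hTD, ← mul_assoc, hED, one_mul]
  have hroot : ∀ x : F, ∃ r : F, r * r = x := fun x => by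
    obtain ⟨r, hr⟩ := FiniteField.isSquare_of_char_two (ringChar.eq F 2) x
    exact ⟨r, hr.symm⟩
  choose σ hσ using fun i : Fin n => hroot (S i i)
  let w : Fin n ⊕ Fin n → F := Sum.elim (N *ᵥ σ) σ
  let g : GL (Fin n ⊕ Fin n) F := ⟨Matrix.fromBlocks 0 N (S * D) Dᵀ, Matrix.fromBlocks D N (S * D) 0, by
    rw [Matrix.fromBlocks_multiply, ← Matrix.fromBlocks_one]
    congr 1
    · rw [zero_mul, zero_add, hNSD]
    · rw [zero_mul, mul_zero, add_zero]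
    · rw [← mul_assoc Dᵀ, hDS]
      ext i j
      exact CharTwo.add_self_eq_zero _
    · rw [mul_zero, add_zero, hSDN], by
    refine mul_eq_one_comm.1 ?_
    rw [Matrix.fromBlocks_multiply, ← Matrix.fromBlocks_one]
    congr 1
    · rw [zero_mul, zero_add, hNSD]
    · rw [zero_mul, mul_zero, add_zero]
    · rw [← mul_assoc Dᵀ, hDS]
      ext i j
      exact CharTwo.add_self_eq_zero _
    · rw [mul_zero, add_zero, hSDN]⟩
  have hQ : ∀ x y : Fin n → F, Qw w (Sum.elim x y) =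
      x ⬝ᵥ y + (x ⬝ᵥ S *ᵥ x + (N *ᵥ y) ⬝ᵥ S *ᵥ (N *ᵥ y)) := by
    intro x y
    have hb : bl w (Sum.elim x y) = σ ⬝ᵥ x + σ ⬝ᵥ N *ᵥ y := by
      rw [bl, Finset.sum_add_distrib, dot_symm hNs σ y, add_comm]
      simp only [w, Sum.elim_inl, Sum.elim_inr, dotProduct]
      congr 1
      exact Finset.sum_congr rfl fun i _ => mul_comm _ _
    rw [Qw_apply, hb, P0_apply, quad_diag hS hσ x, quad_diag hS hσ (N *ᵥ y)]
    simp only [Sum.elim_inl, Sum.elim_inr]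
    rw [show ∑ i, x i * y i = x ⬝ᵥ y from rfl]
    linear_combination ((σ ⬝ᵥ x) * (σ ⬝ᵥ N *ᵥ y)) * h2
  refine ⟨w, g, fun v => ?_, ?_, ?_⟩
  · obtain ⟨x, y, rfl⟩ : ∃ x y, v = Sum.elim x y := ⟨v ∘ Sum.inl, v ∘ Sum.inr, (Sum.elim_comp_inl_inr v).symm⟩
    show Qw w (Matrix.fromBlocks 0 N (S * D) Dᵀ *ᵥ Sum.elim x y) = _
    rw [Matrix.fromBlocks_mulVec, Sum.elim_comp_inl, Sum.elim_comp_inr, Matrix.zero_mulVec, zero_add, hQ, hQ]
    rw [Matrix.mulVec_add N,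
      show N *ᵥ ((S * D) *ᵥ x) = x by rw [Matrix.mulVec_mulVec, hNSD, Matrix.one_mulVec],
      show N *ᵥ (Dᵀ *ᵥ y) = T *ᵥ y by rw [Matrix.mulVec_mulVec, hND]]
    have e1 : (N *ᵥ y) ⬝ᵥ ((S * D) *ᵥ x + Dᵀ *ᵥ y) = x ⬝ᵥ y + y ⬝ᵥ T *ᵥ y := by
      rw [dotProduct_add, dot_symm hSDT (N *ᵥ y) x, Matrix.mulVec_mulVec, hSDN, Matrix.one_mulVec,
        dotProduct_comm (N *ᵥ y) (Dᵀ *ᵥ y), dot_symm hNs (Dᵀ *ᵥ y) y, Matrix.mulVec_mulVec, hND]
    have e2 : (T *ᵥ y) ⬝ᵥ S *ᵥ (T *ᵥ y) = y ⬝ᵥ T *ᵥ y := by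
      rw [Matrix.mulVec_mulVec, hST, Matrix.one_mulVec, dotProduct_comm]
    have e3 : ∀ a b : Fin n → F, (a + b) ⬝ᵥ S *ᵥ (a + b) = a ⬝ᵥ S *ᵥ a + b ⬝ᵥ S *ᵥ b := fun a b => by
      rw [Matrix.mulVec_add, dotProduct_add, add_dotProduct, add_dotProduct, dot_symm hS b a]
      linear_combination (a ⬝ᵥ S *ᵥ b) * h2
    rw [e3, e1, e2]
    linear_combination (y ⬝ᵥ T *ᵥ y) * h2
  · congr 1
    have hP : P0 F (Fin n) w = σ ⬝ᵥ N *ᵥ σ := by
      rw [P0_apply]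
      exact Finset.sum_congr rfl fun i _ => mul_comm _ _
    have htr : P0 F (Fin n) w = (D⁻¹).trace := by
      rw [hP, ← mul_one D⁻¹, ← hTS, ← mul_assoc, ← hN, Matrix.trace_mul_comm]
      simp only [dotProduct, Matrix.mulVec, Matrix.trace, Matrix.diag, Matrix.mul_apply, Finset.mul_sum]
      rw [sum_symm _ (fun i j => σ i * (N i j * σ j)) (fun i j => by
          rw [show N i j = N j i from congrFun (congrFun hNs j) i]; ring),
        sum_symm _ (fun i j => S i j * N j i) (fun i j => by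
          rw [show N i j = N j i from congrFun (congrFun hNs j) i,
            show S i j = S j i from congrFun (congrFun hS j) i])]
      exact Finset.sum_congr rfl fun i _ => by rw [← hσ]; ring
    have hco := coeff_one_charpoly hED
    rw [hD] at hco
    rw [htr, hco, mul_div_cancel_right₀ _ h0]
  · show (Matrix.fromBlocks 0 N (S * D) Dᵀ + Matrix.fromBlocks D N (S * D) 0).charpoly = h * h
    rw [Matrix.fromBlocks_add, zero_add, add_zero]
    have e : ∀ A : Matrix (Fin n) (Fin n) F, A + A = 0 := fun A => by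
      ext i j
      exact CharTwo.add_self_eq_zero _
    rw [e, e, Matrix.charpoly_fromBlocks_zero₁₂, Matrix.charpoly_transpose, hD]

theorem exists_pad {κ κ' μ : Type} [Fintype κ] [Fintype κ'] [Fintype μ] [DecidableEq κ] [DecidableEq κ']
    [DecidableEq μ] (e : κ ⊕ κ' ≃ μ) {w : κ ⊕ κ → F} {g : GL (κ ⊕ κ) F}
    (hg : IsIso F κ w (g : Matrix (κ ⊕ κ) (κ ⊕ κ) F)) (w' : κ' ⊕ κ' → F) :
    ∃ (W : μ ⊕ μ → F) (G : GL (μ ⊕ μ) F), IsIso F μ W (G : Matrix (μ ⊕ μ) (μ ⊕ μ) F) ∧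
      chi (P0 F μ W) = chi (P0 F κ w) * chi (P0 F κ' w') ∧
      ((G : Matrix (μ ⊕ μ) (μ ⊕ μ) F) + (G⁻¹ : GL (μ ⊕ μ) F)).charpoly =
        ((g : Matrix (κ ⊕ κ) (κ ⊕ κ) F) + (g⁻¹ : GL (κ ⊕ κ) F)).charpoly * X ^ Fintype.card (κ' ⊕ κ') := by
  let E : (κ ⊕ κ) ⊕ (κ' ⊕ κ') ≃ μ ⊕ μ := (Equiv.sumSumSumComm κ κ κ' κ').trans (Equiv.sumCongr e e)
  let r := Matrix.reindexAlgEquiv F F E
  let W : μ ⊕ μ → F := Sum.elim w w' ∘ E.symm
  have hP : ∀ v : μ ⊕ μ → F, P0 F μ v = P0 F κ ((v ∘ E) ∘ Sum.inl) + P0 F κ' ((v ∘ E) ∘ Sum.inr) := by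
    intro v
    rw [P0_apply, P0_apply, P0_apply, ← Equiv.sum_comp e, Fintype.sum_sum_type]
    rfl
  have hB : ∀ u v : μ ⊕ μ → F, bl u v = bl ((u ∘ E) ∘ Sum.inl) ((v ∘ E) ∘ Sum.inl) +
      bl ((u ∘ E) ∘ Sum.inr) ((v ∘ E) ∘ Sum.inr) := by
    intro u v
    rw [bl, bl, bl, ← Equiv.sum_comp e, Fintype.sum_sum_type]
    rfl
  have hW : W ∘ E = Sum.elim w w' := by
    funext z
    simp [W]
  have hQ : ∀ v : μ ⊕ μ → F, Qw W v = Qw w ((v ∘ E) ∘ Sum.inl) + Qw w' ((v ∘ E) ∘ Sum.inr) := by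
    intro v
    rw [Qw_apply, Qw_apply, Qw_apply, hP, hB, hW, Sum.elim_comp_inl, Sum.elim_comp_inr]
    linear_combination (bl w ((v ∘ E) ∘ Sum.inl) * bl w' ((v ∘ E) ∘ Sum.inr)) * CharTwo.two_eq_zero (R := F)
  let A := Matrix.fromBlocks (g : Matrix (κ ⊕ κ) (κ ⊕ κ) F) 0 0 (1 : Matrix (κ' ⊕ κ') (κ' ⊕ κ') F)
  let A' := Matrix.fromBlocks ((g⁻¹ : GL (κ ⊕ κ) F) : Matrix (κ ⊕ κ) (κ ⊕ κ) F) 0 0 (1 : Matrix (κ' ⊕ κ') (κ' ⊕ κ') F)
  have hAA : A * A' = 1 := by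
    simp [A, A', Matrix.fromBlocks_multiply]
  let G : GL (μ ⊕ μ) F := ⟨r A, r A', by rw [← map_mul, hAA, map_one],
    by rw [← map_mul, mul_eq_one_comm.1 hAA, map_one]⟩
  refine ⟨W, G, fun v => ?_, ?_, ?_⟩
  · have hv : ((G : Matrix (μ ⊕ μ) (μ ⊕ μ) F) *ᵥ v) ∘ E = A *ᵥ (v ∘ E) := by
      show ((A.submatrix E.symm E.symm) *ᵥ v) ∘ E = _
      rw [Matrix.submatrix_mulVec_equiv]
      funext i
      simp
    rw [hQ, hQ, hv, Matrix.fromBlocks_mulVec, Matrix.zero_mulVec, Matrix.zero_mulVec, add_zero, zero_add,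
      Matrix.one_mulVec, Sum.elim_comp_inl, Sum.elim_comp_inr, hg]
  · rw [hP, hW, Sum.elim_comp_inl, Sum.elim_comp_inr, chi_add]
  · show (r A + r A').charpoly = _
    rw [← map_add]
    show ((A + A').submatrix E.symm E.symm).charpoly = _
    rw [show (A + A').submatrix E.symm E.symm = Matrix.reindex E E (A + A') from rfl, Matrix.charpoly_reindex,
      Matrix.fromBlocks_add, add_zero, Matrix.charpoly_fromBlocks_zero₁₂]
    have h1 : (1 : Matrix (κ' ⊕ κ') (κ' ⊕ κ') F) + 1 = 0 := by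
      ext i j
      exact CharTwo.add_self_eq_zero _
    rw [h1, Matrix.charpoly_zero]

theorem exists_real {n : ℕ} {h : F[X]} (hh : h.Monic) (hd : h.natDegree = n) {ε : ℤ}
    (hε : ε = 1 ∨ ε = -1) (hfit : h.coeff 0 = 0 ∨ chi (h.coeff 1 / h.coeff 0) = ε) :
    ∃ (w : Fin n ⊕ Fin n → F) (g : GL (Fin n ⊕ Fin n) F),
      IsIso F (Fin n) w (g : Matrix (Fin n ⊕ Fin n) (Fin n ⊕ Fin n) F) ∧ chi (P0 F (Fin n) w) = ε ∧
      ((g : Matrix (Fin n ⊕ Fin n) (Fin n ⊕ Fin n) F) + (g⁻¹ : GL (Fin n ⊕ Fin n) F)).charpoly = h * h := by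
  by_cases h0 : h.coeff 0 = 0
  swap
  · obtain ⟨w, g, hg, hc, hp⟩ := exists_base hh hd h0
    exact ⟨w, g, hg, hc.trans (hfit.resolve_left h0), hp⟩
  obtain ⟨h', hh', hnd⟩ := h.exists_eq_pow_rootMultiplicity_mul_and_not_dvd hh.ne_zero 0
  simp only [map_zero, sub_zero] at hh' hnd
  set k := h.rootMultiplicity 0 with hk
  have hmon : h'.Monic := (monic_X_pow k).of_mul_monic_left (hh' ▸ hh)
  have h0' : h'.coeff 0 ≠ 0 := fun e => hnd (X_dvd_iff.2 e)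
  have hk1 : 1 ≤ k := by
    rw [hk]
    exact (rootMultiplicity_pos hh.ne_zero).2 (by rw [IsRoot, ← coeff_zero_eq_eval_zero, h0])
  have hdeg : n = k + h'.natDegree := by
    rw [← hd, hh', (monic_X_pow k).natDegree_mul hmon, natDegree_X_pow]
  obtain ⟨w, g, hg, -, hp⟩ := exists_base hmon rfl h0'
  obtain ⟨c, hc⟩ : ∃ c : F, chi c = ε * chi (P0 F (Fin h'.natDegree) w) := by
    rcases chi_cases (P0 F (Fin h'.natDegree) w) with e | e <;> rcases hε with rfl | rfl <;> rw [e]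
    all_goals first
      | exact ⟨0, by rw [chi_zero]; rfl⟩
      | (obtain ⟨z, hz⟩ := exists_chi_neg (F := F); exact ⟨z, by rw [hz]; rfl⟩)
  let i0 : Fin k := ⟨0, hk1⟩
  let w' : Fin k ⊕ Fin k → F := Sum.elim (Pi.single i0 c) (Pi.single i0 1)
  have hw' : P0 F (Fin k) w' = c := by
    simp [P0_apply, w', Pi.single_apply]
  obtain ⟨W, G, hG, hGc, hGp⟩ := exists_pad
    ((Equiv.sumComm _ _).trans (finSumFinEquiv.trans (finCongr hdeg.symm))) hg w'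
  refine ⟨W, G, hG, ?_, ?_⟩
  · rw [hGc, hw', hc]
    rcases chi_cases (P0 F (Fin h'.natDegree) w) with e | e <;> rw [e] <;> ring
  · rw [hGp, hp, hh', Fintype.card_sum, Fintype.card_fin, pow_add]
    ring

end OrthClassTwo2559
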