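import Mathlib
import Cfsg.Agent.Lib.Forms.SympStd
import Cfsg.Agent.OrthClassCountTwo.Real

/-!
The classes of orthogonal groups in even dimension and characteristic two against those of the symplectic group.
-/

set_option autoImplicit false
set_option linter.unusedSectionVars false

universe u

namespace OrthClassTwo2559

open Matrix Polynomial Cfsg.Agent.Forms Cfsg.Agent.Forms.QuadStd

variable {F : Type u} [Field F] [Fintype F] [CharP F 2]

/-- the orthogonal group of `Qw w` -/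
noncomputable abbrev OG {n : ℕ} (w : Fin n ⊕ Fin n → F) : Subgroup (GL (Fin n ⊕ Fin n) F) :=
  Cfsg.isometryGroup F ⇑(Qw w)

lemma bl_eq_sympForm {n : ℕ} (u v : Fin n ⊕ Fin n → F) : bl u v = Cfsg.sympForm n F u v := by
  rw [SympStd.sympForm_eq]
  exact Finset.sum_congr rfl fun i _ => by rw [CharTwo.sub_eq_add, add_comm]

/-- the embedding in the symplectic group -/
noncomputable def toSp {n : ℕ} (w : Fin n ⊕ Fin n → F) : OG w →* Matrix.symplecticGroup (Fin n) F where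
  toFun g := ⟨((g : GL (Fin n ⊕ Fin n) F) : Matrix (Fin n ⊕ Fin n) (Fin n ⊕ Fin n) F),
    SympStd.mem_sp_iff.2 fun u v => by
      rw [← bl_eq_sympForm, ← bl_eq_sympForm]
      exact IsIso.bl (fun x => iso_mulVec g x) u v⟩
  map_one' := rfl
  map_mul' _ _ := rfl

lemma exists_move {n : ℕ} {w w' : Fin n ⊕ Fin n → F}
    (h : chi (P0 F (Fin n) w) = chi (P0 F (Fin n) w')) :
    ∃ t : GL (Fin n ⊕ Fin n) F, ∀ x,
      Qw w' ((t : Matrix (Fin n ⊕ Fin n) (Fin n ⊕ Fin n) F) *ᵥ x) = Qw w x := by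
  have hQ : ∀ x, Qw w' x + bl (w + w') x * bl (w + w') x = Qw w x := fun x => by
    rw [Qw_apply, Qw_apply, bl_add_left]
    linear_combination (bl w x * bl w' x + bl w' x * bl w' x) * CharTwo.two_eq_zero (R := F)
  obtain ⟨c, hc⟩ := exists_transvection w' (w + w') (by
    rw [funext hQ, csum_Qw, csum_Qw, h])
  set a := w + w'
  let T : (Fin n ⊕ Fin n → F) →ₗ[F] (Fin n ⊕ Fin n → F) := LinearMap.id + (c • blLin a).smulRight a
  have hT : ∀ x, T x = x + (c * bl a x) • a := fun x => rfl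
  have hTT : T.comp T = LinearMap.id := LinearMap.ext fun x => by
    rw [LinearMap.comp_apply, hT, hT, bl_add_right, bl_smul_right, bl_self, mul_zero, add_zero,
      add_assoc, ← add_smul, CharTwo.add_self_eq_zero, zero_smul, add_zero]
    rfl
  have htM : LinearMap.toMatrix' T * LinearMap.toMatrix' T = 1 := by
    rw [← LinearMap.toMatrix'_comp, hTT, LinearMap.toMatrix'_id]
  refine ⟨⟨LinearMap.toMatrix' T, LinearMap.toMatrix' T, htM, htM⟩, fun x => ?_⟩
  show Qw w' (LinearMap.toMatrix' T *ᵥ x) = _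
  rw [LinearMap.toMatrix'_mulVec, hT, hc, hQ]

lemma charpoly_sum_conj {ι : Type} [Fintype ι] [DecidableEq ι] (a g : GL ι F) :
    (((a * g * a⁻¹ : GL ι F) : Matrix ι ι F) + ((a * g * a⁻¹)⁻¹ : GL ι F)).charpoly =
      ((g : Matrix ι ι F) + (g⁻¹ : GL ι F)).charpoly := by
  rw [_root_.mul_inv_rev, _root_.mul_inv_rev, inv_inv, ← mul_assoc a, Units.val_mul, Units.val_mul,
    Units.val_mul, Units.val_mul, ← add_mul, ← mul_add]
  simp only [Matrix.coe_units_inv]
  rw [Matrix.charpoly_units_conj]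

/-- an element of a given orthogonal group -/
theorem exists_elt {n : ℕ} (w : Fin n ⊕ Fin n → F) {h : F[X]} (hh : h.Monic) (hd : h.natDegree = n)
    (hfit : h.coeff 0 = 0 ∨ chi (h.coeff 1 / h.coeff 0) = chi (P0 F (Fin n) w)) :
    ∃ g : OG w, (((g : GL (Fin n ⊕ Fin n) F) : Matrix (Fin n ⊕ Fin n) (Fin n ⊕ Fin n) F) +
      (((g : GL (Fin n ⊕ Fin n) F))⁻¹ : GL (Fin n ⊕ Fin n) F)).charpoly = h * h := by
  obtain ⟨w', g, hg, hc, hp⟩ := exists_real hh hd (chi_cases _) hfit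
  obtain ⟨t, ht⟩ := exists_move hc
  refine ⟨⟨t * g * t⁻¹, (mem_isometry_iff _ _).2 fun x => ?_⟩, ?_⟩
  · have hx : x = (t : Matrix (Fin n ⊕ Fin n) (Fin n ⊕ Fin n) F) *ᵥ
        (((t⁻¹ : GL (Fin n ⊕ Fin n) F) : Matrix (Fin n ⊕ Fin n) (Fin n ⊕ Fin n) F) *ᵥ x) := by
      rw [Matrix.mulVec_mulVec, ← Units.val_mul, mul_inv_cancel, Units.val_one, Matrix.one_mulVec]
    rw [Units.val_mul, Units.val_mul, ← Matrix.mulVec_mulVec, ← Matrix.mulVec_mulVec, ht, hg]
    conv_rhs => rw [hx, ht]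
  · exact (charpoly_sum_conj t g).trans hp

/-! ### The polynomials -/

/-- monic polynomials with the first two coefficients given -/
noncomputable def hp {m : ℕ} (p : Fin m → F) (a b : F) : F[X] :=
  X ^ 2 * (X ^ m + ∑ i : Fin m, C (p i) * X ^ (i : ℕ)) + (C b * X + C a)

lemma hp_spec {m : ℕ} (p : Fin m → F) (a b : F) :
    (hp p a b).Monic ∧ (hp p a b).natDegree = m + 2 ∧ (hp p a b).coeff 0 = a ∧ (hp p a b).coeff 1 = b ∧
      ∀ i : Fin m, (hp p a b).coeff (i + 2) = p i := by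
  have hP : (X ^ m + ∑ i : Fin m, C (p i) * X ^ (i : ℕ)).Monic := monic_X_pow_add (degree_sum_fin_lt _)
  have hPd : (X ^ m + ∑ i : Fin m, C (p i) * X ^ (i : ℕ)).natDegree = m := by
    refine natDegree_eq_of_degree_eq_some ?_
    rw [degree_add_eq_left_of_degree_lt] <;> rw [degree_X_pow]
    exact degree_sum_fin_lt _
  have hmon := (monic_X_pow (R := F) 2).mul hP
  have hd : (X ^ 2 * (X ^ m + ∑ i : Fin m, C (p i) * X ^ (i : ℕ))).natDegree = m + 2 := by
    rw [(monic_X_pow (R := F) 2).natDegree_mul hP, hPd, natDegree_X_pow, add_comm]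
  have hlow : (C b * X + C a).degree < (X ^ 2 * (X ^ m + ∑ i : Fin m, C (p i) * X ^ (i : ℕ))).degree := by
    rw [degree_eq_natDegree hmon.ne_zero, hd]
    refine lt_of_le_of_lt degree_linear_le ?_
    exact_mod_cast (show 1 < m + 2 by omega)
  refine ⟨hmon.add_of_left hlow, ?_, ?_, ?_, fun i => ?_⟩
  · rw [hp, natDegree_eq_of_degree_eq (degree_add_eq_left_of_degree_lt hlow), hd]
  · simp [hp]
  · simp [hp, coeff_X_pow_mul']
  · rw [hp, coeff_add, coeff_X_pow_mul, coeff_add, coeff_add, coeff_X_pow, if_neg (by have := i.2; omega),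
      zero_add, finsetSum_coeff, Finset.sum_eq_single i]
    · simp
    · intro j _ hj
      rw [coeff_C_mul, coeff_X_pow, if_neg fun e => hj (Fin.ext e.symm), mul_zero]
    · simp

lemma hp_inj {m : ℕ} {p p' : Fin m → F} {a b a' b' : F} (e : hp p a b = hp p' a' b') :
    p = p' ∧ a = a' ∧ b = b' := by
  obtain ⟨-, -, ha, hb, hc⟩ := hp_spec p a b
  obtain ⟨-, -, ha', hb', hc'⟩ := hp_spec p' a' b'
  exact ⟨funext fun i => by rw [← hc, ← hc', e], by rw [← ha, ← ha', e], by rw [← hb, ← hb', e]⟩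

lemma hp_sq_inj {m : ℕ} {p p' : Fin m → F} {a b a' b' : F}
    (e : hp p a b * hp p a b = hp p' a' b' * hp p' a' b') : p = p' ∧ a = a' ∧ b = b' := by
  refine hp_inj ?_
  rcases mul_self_eq_mul_self_iff.1 e with e' | e'
  · exact e'
  · rwa [CharTwo.neg_eq] at e'

/-- second and first coefficient for the sign `ε`, no root at zero -/
def Pr (F : Type u) [Field F] [Fintype F] (ε : ℤ) : Type u :=
  {z : F × F // z.1 ≠ 0 ∧ chi (z.2 / z.1) = ε}

instance (ε : ℤ) : Finite (Pr F ε) := by unfold Pr; infer_instance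

lemma two_mul_card_pr {ε : ℤ} (hε : ε = 1 ∨ ε = -1) :
    2 * Nat.card (Pr F ε) = (Fintype.card F - 1) * Fintype.card F := by
  classical
  have e : Pr F ε ≃ {a : F // a ≠ 0} × {x : F // chi x = ε} :=
    { toFun := fun z => (⟨z.1.1, z.2.1⟩, ⟨z.1.2 / z.1.1, z.2.2⟩)
      invFun := fun y => ⟨(y.1.1, y.1.1 * y.2.1), y.1.2, by
        rw [mul_div_cancel_left₀ _ y.1.2]; exact y.2.2⟩
      left_inv := fun z => Subtype.ext (Prod.ext rfl (mul_div_cancel₀ _ z.2.1))
      right_inv := fun y => Prod.ext rfl (Subtype.ext (mul_div_cancel_left₀ _ y.1.2)) }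
  rw [Nat.card_congr e, Nat.card_prod, mul_left_comm, two_mul_card_chi hε, Nat.card_eq_fintype_card,
    Fintype.card_subtype_compl, Fintype.card_subtype_eq]

variable {m : ℕ}

theorem le_classes (w : Fin (m + 2) ⊕ Fin (m + 2) → F) :
    Fintype.card F ^ (m + 2) ≤ 2 * Nat.card (ConjClasses (OG w)) := by
  classical
  set ε := chi (P0 F (Fin (m + 2)) w) with hε
  let A := (Fin m → F) × (Pr F ε ⊕ F)
  let par : A → F[X] := fun x => Sum.elim (fun z => hp x.1 z.1.1 z.1.2) (fun b => hp x.1 0 b) x.2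
  have hel : ∀ x : A, ∃ g : OG w, (((g : GL (Fin (m + 2) ⊕ Fin (m + 2)) F) :
      Matrix (Fin (m + 2) ⊕ Fin (m + 2)) (Fin (m + 2) ⊕ Fin (m + 2)) F) +
      (((g : GL (Fin (m + 2) ⊕ Fin (m + 2)) F))⁻¹ : GL (Fin (m + 2) ⊕ Fin (m + 2)) F)).charpoly =
      par x * par x := by
    rintro ⟨p, z | b⟩
    · obtain ⟨h1, h2, h3, h4, -⟩ := hp_spec p z.1.1 z.1.2
      refine exists_elt w h1 h2 (Or.inr ?_)
      show chi ((hp p z.1.1 z.1.2).coeff 1 / (hp p z.1.1 z.1.2).coeff 0) = _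
      rw [h3, h4]
      exact z.2.2
    · obtain ⟨h1, h2, h3, -, -⟩ := hp_spec p 0 b
      exact exists_elt w h1 h2 (Or.inl h3)
  choose y hy using hel
  have hinj : Function.Injective fun x : A => ConjClasses.mk (y x) := by
    intro x x' e
    obtain ⟨k, hk⟩ := isConj_iff.1 (ConjClasses.mk_eq_mk_iff_isConj.1 e)
    have key := charpoly_sum_conj (k : GL (Fin (m + 2) ⊕ Fin (m + 2)) F) (y x).1
    rw [show (k : GL (Fin (m + 2) ⊕ Fin (m + 2)) F) * (y x).1 * (k : GL (Fin (m + 2) ⊕ Fin (m + 2)) F)⁻¹ =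
      (y x').1 from congrArg Subtype.val hk, hy, hy] at key
    obtain ⟨p, z | b⟩ := x <;> obtain ⟨p', z' | b'⟩ := x' <;> obtain ⟨h1, h2, h3⟩ := hp_sq_inj key.symm
    · subst h1
      exact congrArg (fun z => (p, Sum.inl z)) (Subtype.ext (Prod.ext h2 h3))
    · exact absurd h2 z.2.1
    · exact absurd h2.symm z'.2.1
    · subst h1 h3
      rfl
  have hA := Nat.card_le_card_of_injective _ hinj
  rw [Nat.card_prod, Nat.card_fun, Nat.card_sum, Nat.card_fin, Nat.card_eq_fintype_card (α := F)] at hA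
  have hp2 := two_mul_card_pr (F := F) (chi_cases (P0 F (Fin (m + 2)) w))
  have hq : Fintype.card F ^ 2 ≤ (Fintype.card F - 1) * Fintype.card F + 2 * Fintype.card F := by
    rw [sq, ← add_mul]
    exact Nat.mul_le_mul_right _ (by omega)
  calc Fintype.card F ^ (m + 2) = Fintype.card F ^ m * Fintype.card F ^ 2 := pow_add _ _ _
    _ ≤ Fintype.card F ^ m * ((Fintype.card F - 1) * Fintype.card F + 2 * Fintype.card F) :=
        Nat.mul_le_mul_left _ hq
    _ = 2 * (Fintype.card F ^ m * (Nat.card (Pr F ε) + Fintype.card F)) := by rw [← hp2]; ring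
    _ ≤ _ := Nat.mul_le_mul_left _ hA

theorem classes_add_le (w : Fin (m + 2) ⊕ Fin (m + 2) → F) :
    2 * Nat.card (ConjClasses (OG w)) + (Fintype.card F - 1) * Fintype.card F ^ (m + 1) ≤
      2 * Nat.card (ConjClasses (Matrix.symplecticGroup (Fin (m + 2)) F)) := by
  classical
  set ε := chi (P0 F (Fin (m + 2)) w) with hε
  have hne : ∀ ε : ℤ, ε = 1 ∨ ε = -1 → ∃ w' : Fin (m + 2) ⊕ Fin (m + 2) → F, chi (P0 F (Fin (m + 2)) w') = ε := by
    intro e he
    obtain ⟨z, hz⟩ := exists_chi_neg (F := F)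
    have hv : ∀ c : F, P0 F (Fin (m + 2)) (Sum.elim (Pi.single 0 c) (Pi.single 0 1)) = c := fun c => by
      simp [P0_apply, Pi.single_apply]
    rcases he with rfl | rfl
    · exact ⟨_, by rw [hv, chi_zero]⟩
    · exact ⟨_, by rw [hv, hz]⟩
  have hneg : -ε = 1 ∨ -ε = -1 := by
    rcases chi_cases (P0 F (Fin (m + 2)) w) with h | h <;> rw [← hε] at h <;> simp [h]
  obtain ⟨w', hw'⟩ := hne (-ε) hneg
  let A := (Fin m → F) × Pr F (-ε)
  have hel : ∀ x : A, ∃ g : OG w', (((g : GL (Fin (m + 2) ⊕ Fin (m + 2)) F) :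
      Matrix (Fin (m + 2) ⊕ Fin (m + 2)) (Fin (m + 2) ⊕ Fin (m + 2)) F) +
      (((g : GL (Fin (m + 2) ⊕ Fin (m + 2)) F))⁻¹ : GL (Fin (m + 2) ⊕ Fin (m + 2)) F)).charpoly =
      hp x.1 x.2.1.1 x.2.1.2 * hp x.1 x.2.1.1 x.2.1.2 := by
    rintro ⟨p, z⟩
    obtain ⟨h1, h2, h3, h4, -⟩ := hp_spec p z.1.1 z.1.2
    refine exists_elt w' h1 h2 (Or.inr ?_)
    rw [h3, h4, hw']
    exact z.2.2
  choose y hy using hel
  let v : (g : Matrix.symplecticGroup (Fin (m + 2)) F) → GL (Fin (m + 2) ⊕ Fin (m + 2)) F := fun g =>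
    ⟨(g : Matrix (Fin (m + 2) ⊕ Fin (m + 2)) (Fin (m + 2) ⊕ Fin (m + 2)) F),
      ((g⁻¹ : Matrix.symplecticGroup (Fin (m + 2)) F) : Matrix (Fin (m + 2) ⊕ Fin (m + 2)) (Fin (m + 2) ⊕ Fin (m + 2)) F),
      congrArg Subtype.val (mul_inv_cancel g), congrArg Subtype.val (inv_mul_cancel g)⟩
  have hv : ∀ a b, v (a * b) = v a * v b := fun a b => Units.ext rfl
  have hconj : ∀ {g g' : Matrix.symplecticGroup (Fin (m + 2)) F}, IsConj g g' →
      ∃ h : GL (Fin (m + 2) ⊕ Fin (m + 2)) F, (∀ x y : Fin (m + 2) ⊕ Fin (m + 2) → F,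
        bl ((h : Matrix (Fin (m + 2) ⊕ Fin (m + 2)) (Fin (m + 2) ⊕ Fin (m + 2)) F) *ᵥ x)
          ((h : Matrix (Fin (m + 2) ⊕ Fin (m + 2)) (Fin (m + 2) ⊕ Fin (m + 2)) F) *ᵥ y) = bl x y) ∧
        h * v g * h⁻¹ = v g' := by
    intro g g' hgg
    obtain ⟨k, hk⟩ := isConj_iff.1 hgg
    refine ⟨v k, fun x y => ?_, mul_inv_eq_iff_eq_mul.2 ?_⟩
    · rw [bl_eq_sympForm, bl_eq_sympForm]
      exact SympStd.sympForm_mulVec k x y
    · rw [← hv, ← hv, mul_inv_eq_iff_eq_mul.1 hk]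
  let Φ : ConjClasses (OG w) ⊕ A → ConjClasses (Matrix.symplecticGroup (Fin (m + 2)) F) :=
    Sum.elim (ConjClasses.map (toSp w)) fun x => ConjClasses.mk (toSp w' (y x))
  have hΦ : Function.Injective Φ := by
    have e1 : Function.Injective (ConjClasses.map (toSp w)) := fun c c' => Quotient.inductionOn₂ c c' fun g g' e => by
      obtain ⟨h, hh, hc⟩ := hconj (ConjClasses.mk_eq_mk_iff_isConj.1 e)
      obtain ⟨k, hk, hkc⟩ := fusion (g := g.1) (g' := g'.1) (fun x => iso_mulVec g x) (fun x => iso_mulVec g' x) hh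
        ((show v (toSp w g) = g.1 from Units.ext rfl) ▸ (show v (toSp w g') = g'.1 from Units.ext rfl) ▸ hc)
      exact ConjClasses.mk_eq_mk_iff_isConj.2 (isConj_iff.2
        ⟨⟨k, (mem_isometry_iff _ _).2 hk⟩, Subtype.ext hkc⟩)
    have e2 : ∀ (g : OG w) (x : A), ConjClasses.mk (toSp w' (y x)) ≠ ConjClasses.mk (toSp w g) := by
      intro g x e
      obtain ⟨h, hh, hc⟩ := hconj (ConjClasses.mk_eq_mk_iff_isConj.1 e)
      rw [show v (toSp w' (y x)) = (y x).1 from Units.ext rfl, show v (toSp w g) = g.1 from Units.ext rfl] at hc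
      have hfp : (((y x).1 : Matrix (Fin (m + 2) ⊕ Fin (m + 2)) (Fin (m + 2) ⊕ Fin (m + 2)) F) +
          ((y x).1⁻¹ : GL (Fin (m + 2) ⊕ Fin (m + 2)) F)).det ≠ 0 := by
        obtain ⟨-, -, h3, -, -⟩ := hp_spec x.1 x.2.1.1 x.2.1.2
        rw [Matrix.det_eq_sign_charpoly_coeff, hy, mul_coeff_zero, h3, CharTwo.neg_eq, one_pow, one_mul]
        exact mul_ne_zero x.2.2.1 x.2.2.1
      have := no_fusion (w := w') (w' := w) (fun z => iso_mulVec (y x) z) (fun z => iso_mulVec g z) hh hc hfp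
      rw [hw', ← hε] at this
      rcases chi_cases (P0 F (Fin (m + 2)) w) with h' | h' <;> rw [← hε] at h' <;> omega
    refine e1.sumElim (fun x x' e => ?_) (fun c x e => ?_)
    · obtain ⟨h, hh, hc⟩ := hconj (ConjClasses.mk_eq_mk_iff_isConj.1 e)
      rw [show v (toSp w' (y x)) = (y x).1 from Units.ext rfl,
        show v (toSp w' (y x')) = (y x').1 from Units.ext rfl] at hc
      have key := charpoly_sum_conj h (y x).1
      rw [hc, hy, hy] at key
      obtain ⟨h1, h2, h3⟩ := hp_sq_inj key.symm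
      exact Prod.ext h1 (Subtype.ext (Prod.ext h2 h3))
    · obtain ⟨g, rfl⟩ := ConjClasses.mk_surjective c
      exact e2 g x e.symm
  have hA := Nat.card_le_card_of_injective _ hΦ
  rw [Nat.card_sum, Nat.card_prod, Nat.card_fun, Nat.card_fin, Nat.card_eq_fintype_card (α := F)] at hA
  calc 2 * Nat.card (ConjClasses (OG w)) + (Fintype.card F - 1) * Fintype.card F ^ (m + 1)
      = 2 * (Nat.card (ConjClasses (OG w)) + Fintype.card F ^ m * Nat.card (Pr F (-ε))) := by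
        rw [pow_succ', ← mul_assoc, ← two_mul_card_pr hneg]; ring
    _ ≤ _ := Nat.mul_le_mul_left _ hA

theorem classes_le {w : Fin (m + 2) ⊕ Fin (m + 2) → F}
    (hSp : 5 * Nat.card (ConjClasses (Matrix.symplecticGroup (Fin (m + 2)) F)) ≤ 76 * Fintype.card F ^ (m + 2)) :
    Nat.card (ConjClasses (OG w)) ≤ 15 * Fintype.card F ^ (m + 2) := by
  have h := classes_add_le w
  have hq : 2 ≤ Fintype.card F := Fintype.one_lt_card
  have h' : 2 * Fintype.card F ^ (m + 2) ≤ 5 * ((Fintype.card F - 1) * Fintype.card F ^ (m + 1)) := by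
    rw [pow_succ' _ (m + 1), ← mul_assoc, ← mul_assoc]
    exact Nat.mul_le_mul_right _ (by omega)
  omega

/-! ### The standard forms -/

/-- a matrix as a linear equivalence -/
def gEquiv {ι : Type} [Fintype ι] [DecidableEq ι] (g : GL ι F) : (ι → F) ≃ₗ[F] (ι → F) :=
  { Matrix.mulVecLin (g : Matrix ι ι F) with
    invFun := fun v => ((g⁻¹ : GL ι F) : Matrix ι ι F) *ᵥ v
    left_inv := fun v => by
      simp [Matrix.mulVec_mulVec]
    right_inv := fun v => by
      simp [Matrix.mulVec_mulVec] }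

lemma gEquiv_apply {ι : Type} [Fintype ι] [DecidableEq ι] (g : GL ι F) (v : ι → F) :
    gEquiv g v = (g : Matrix ι ι F) *ᵥ v := rfl

lemma classes_congr {ι κ : Type} [Fintype ι] [DecidableEq ι] [Fintype κ] [DecidableEq κ]
    (Q : (ι → F) → F) (R : (κ → F) → F) (e : (ι → F) ≃ₗ[F] (κ → F)) (he : ∀ v, R (e v) = Q v) :
    Nat.card (ConjClasses (Cfsg.isometryGroup F Q)) = Nat.card (ConjClasses (Cfsg.isometryGroup F R)) := by
  let f : Cfsg.isometryGroup F Q ≃* Cfsg.isometryGroup F R :=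
    { toFun := fun g => isoOfEquiv R (e.symm.trans ((gEquiv g.1).trans e)) fun v => by
        rw [LinearEquiv.trans_apply, LinearEquiv.trans_apply, he, gEquiv_apply, iso_mulVec g (e.symm v), ← he,
          e.apply_symm_apply]
      invFun := fun g => isoOfEquiv Q (e.trans ((gEquiv g.1).trans e.symm)) fun v => by
        rw [LinearEquiv.trans_apply, LinearEquiv.trans_apply, ← he, e.apply_symm_apply, gEquiv_apply,
          iso_mulVec g (e v), he]
      left_inv := fun g => iso_ext fun v => by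
        rw [isoOfEquiv_mulVec, LinearEquiv.trans_apply, LinearEquiv.trans_apply, gEquiv_apply,
          isoOfEquiv_mulVec]
        simp [gEquiv_apply]
      right_inv := fun g => iso_ext fun v => by
        rw [isoOfEquiv_mulVec, LinearEquiv.trans_apply, LinearEquiv.trans_apply, gEquiv_apply,
          isoOfEquiv_mulVec]
        simp [gEquiv_apply]
      map_mul' := fun g g' => iso_ext fun v => by
        rw [mul_mulVec_iso]
        simp [isoOfEquiv_mulVec, gEquiv_apply, Matrix.mulVec_mulVec] }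
  refine Nat.card_congr (Equiv.ofBijective (ConjClasses.map f.toMonoidHom) ⟨?_, ConjClasses.map_surjective f.surjective⟩)
  intro c c'
  refine Quotient.inductionOn₂ c c' fun a b h => ?_
  obtain ⟨k, hk⟩ := isConj_iff.1 (ConjClasses.mk_eq_mk_iff_isConj.1 h)
  refine ConjClasses.mk_eq_mk_iff_isConj.2 (isConj_iff.2 ⟨f.symm k, f.injective ?_⟩)
  simpa using hk

lemma Qw_zero (n : ℕ) : ⇑(Qw (0 : Fin n ⊕ Fin n → F)) = Cfsg.quadFormPlus n F := funext fun v => by
  rw [Qw_apply, P0_apply, bl_zero_left, mul_zero, add_zero]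
  rfl

theorem exists_minus {k : ℕ} {a b : F}
    (hab : ∀ z₁ z₂ : F, z₁ ^ 2 + a * z₁ * z₂ + b * z₂ ^ 2 = 0 → z₁ = 0 ∧ z₂ = 0) :
    ∃ (w : Fin (k + 1) ⊕ Fin (k + 1) → F)
      (e : ((Fin k ⊕ Fin k) ⊕ Fin 2 → F) ≃ₗ[F] (Fin (k + 1) ⊕ Fin (k + 1) → F)),
      ∀ v, Qw w (e v) = Cfsg.quadFormMinus k F a b v := by
  obtain ⟨z, hz⟩ := exists_chi_neg (F := F)
  let w : Fin (k + 1) ⊕ Fin (k + 1) → F := Sum.elim (Pi.single 0 z) (Pi.single 0 1)
  have hw : P0 F (Fin (k + 1)) w = z := by simp [P0_apply, w, Pi.single_apply]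
  have hpol : ∀ u v, QuadraticMap.polar (Qw w) u v = bl u v := fun u v => by
    rw [QuadraticMap.polar, Qw_add]
    ring
  have hnd : (QuadraticMap.polarBilin (Qw w)).Nondegenerate :=
    ⟨fun x hx => bl_nondeg fun y => (hpol x y).symm.trans (hx y),
      fun x hx => bl_nondeg fun y => by rw [bl_comm, ← hpol]; exact hx y⟩
  have hnp : ¬ Cfsg.Agent.Classical.OrthTypes.IsPlus (Qw w) (k + 1) := by
    intro hp
    obtain ⟨e, he⟩ := Cfsg.Agent.Classical.OrthTypes.exists_isometry (m := k + 1) (by simp; ring) (by simp; ring)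
      hnd (PlusStd.plusQ_nondeg F (k + 1)) (iff_of_true hp (Cfsg.Agent.Classical.OrthTypes.isPlus_plusQ _))
    have h := chi_eq_of_csum (w := w) (w' := 0) (csum_comp _ _ e.toEquiv fun v => by
      rw [Qw_zero, ← PlusStd.plusQ_apply]
      exact he v)
    rw [hw, hz, QuadraticMap.map_zero, chi_zero] at h
    norm_num at h
  have hnm := Cfsg.Agent.Classical.OrthTypes.not_isPlus_minQ (k := k) hab
  obtain ⟨e, he⟩ := Cfsg.Agent.Classical.OrthTypes.exists_isometry (m := k + 1) (by simp; ring) (by simp; ring)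
    (Cfsg.Agent.Classical.OrthForms.minQ_nondeg k hab) hnd (iff_of_false hnm hnp)
  exact ⟨w, e, fun v => by rw [he, Cfsg.Agent.Classical.OrthForms.minQ_eq]⟩

theorem bounds (n : ℕ) (hn : 2 ≤ n) (a b : F)
    (hab : ∀ z₁ z₂ : F, z₁ ^ 2 + a * z₁ * z₂ + b * z₂ ^ 2 = 0 → z₁ = 0 ∧ z₂ = 0)
    (hSp : 5 * Nat.card (ConjClasses (Matrix.symplecticGroup (Fin n) F)) ≤ 76 * Fintype.card F ^ n) :
    (Fintype.card F ^ n ≤ 2 * Nat.card (ConjClasses ↥(Cfsg.isometryGroup F (Cfsg.quadFormPlus n F))) ∧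
      Nat.card (ConjClasses ↥(Cfsg.isometryGroup F (Cfsg.quadFormPlus n F))) ≤ 15 * Fintype.card F ^ n) ∧
    (Fintype.card F ^ n ≤ 2 * Nat.card (ConjClasses ↥(Cfsg.isometryGroup F (Cfsg.quadFormMinus (n - 1) F a b))) ∧
      Nat.card (ConjClasses ↥(Cfsg.isometryGroup F (Cfsg.quadFormMinus (n - 1) F a b))) ≤ 15 * Fintype.card F ^ n) := by
  obtain ⟨m, rfl⟩ : ∃ m, n = m + 2 := ⟨n - 2, by omega⟩
  rw [show m + 2 - 1 = m + 1 by omega]
  obtain ⟨w, e, he⟩ := exists_minus (k := m + 1) hab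
  have h0 := le_classes (0 : Fin (m + 2) ⊕ Fin (m + 2) → F)
  have h0' := classes_le (w := (0 : Fin (m + 2) ⊕ Fin (m + 2) → F)) hSp
  rw [OG, Qw_zero] at h0 h0'
  have hk := classes_congr (Cfsg.quadFormMinus (m + 1) F a b) ⇑(Qw w) e he
  rw [hk]
  exact ⟨⟨h0, h0'⟩, le_classes w, classes_le hSp⟩

end OrthClassTwo2559
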