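import Mathlib
import Cfsg.Agent.S2385

/-!
The symplectic group in characteristic two has at least `q ^ n` classes.
-/

set_option autoImplicit false

universe u

namespace OrthClassTwo2559

open Matrix Polynomial

variable {F : Type u} [Field F] [Fintype F] [CharP F 2]

theorem pow_le_card_classes_sp (n : ℕ) :
    Fintype.card F ^ n ≤ Nat.card (ConjClasses (Matrix.symplecticGroup (Fin n) F)) := by
  classical
  let h : (Fin n → F) → F[X] := fun p => X ^ n + ∑ i : Fin n, C (p i) * X ^ (i : ℕ)
  have hdeg : ∀ p, (h p).natDegree = n := fun p => by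
    refine natDegree_eq_of_degree_eq_some ?_
    rw [degree_add_eq_left_of_degree_lt] <;> rw [degree_X_pow]
    exact degree_sum_fin_lt _
  choose y hy using fun p => Cfsg.Agent.S2385.exists_elem n (h p) (monic_X_pow_add (degree_sum_fin_lt _)) (hdeg p)
  have hinj : Function.Injective fun p => ConjClasses.mk (y p) := by
    intro p p' e
    obtain ⟨k, hk⟩ := isConj_iff.1 (ConjClasses.mk_eq_mk_iff_isConj.1 e)
    let u : (Matrix (Fin n ⊕ Fin n) (Fin n ⊕ Fin n) F)ˣ :=
      ⟨(k : Matrix (Fin n ⊕ Fin n) (Fin n ⊕ Fin n) F),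
        ((k⁻¹ : Matrix.symplecticGroup (Fin n) F) : Matrix (Fin n ⊕ Fin n) (Fin n ⊕ Fin n) F),
        congrArg Subtype.val (mul_inv_cancel k), congrArg Subtype.val (inv_mul_cancel k)⟩
    have key : h p' * h p' = h p * h p := by
      rw [← hy p', ← hy p, ← hk, _root_.mul_inv_rev, _root_.mul_inv_rev, inv_inv, ← mul_assoc k]
      simp only [Submonoid.coe_mul]
      rw [← add_mul, ← mul_add]
      show (u.1 * _ * (u⁻¹).1).charpoly = _
      rw [Matrix.coe_units_inv, Matrix.charpoly_units_conj]
    have e' : h p' = h p := by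
      rcases mul_self_eq_mul_self_iff.1 key with e' | e'
      · exact e'
      · rwa [CharTwo.neg_eq] at e'
    funext i
    have := congrArg (coeff · (i : ℕ)) (add_left_cancel e')
    simp only [finsetSum_coeff, coeff_C_mul, coeff_X_pow, mul_ite, mul_one, mul_zero] at this
    rw [Finset.sum_eq_single i (fun j _ hj => if_neg fun h => hj (Fin.ext h.symm)) (by simp),
      Finset.sum_eq_single i (fun j _ hj => if_neg fun h => hj (Fin.ext h.symm)) (by simp),
      if_pos rfl, if_pos rfl] at this
    exact this.symm
  have := Nat.card_le_card_of_injective _ hinj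
  rwa [Nat.card_fun, Nat.card_fin, Nat.card_eq_fintype_card] at this

end OrthClassTwo2559
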